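import Groth.Agent.Pi1Quot.Descend
import Groth.Agent.S15003
import Groth.Agent.S9821
import Groth.Agent.Variety2.Normal
import Groth.Agent.FiltBlProj.DegreeZero

/-!
Quotients of integral schemes by finite groups: integrality, normality and degree.
-/

set_option autoImplicit false

universe u

open CategoryTheory CategoryTheory.Limits AlgebraicGeometry Groth.Pi1Quot

namespace Groth.QuotCurve

variable {X Y : Scheme.{u}} {G : Type u} [Group G] [Finite G] {ρ : G →* Aut X} {p : X ⟶ Y}

theorem isIntegral_quot (hp : SGA1.IsQuot ρ p) [IsIntegral X] : IsIntegral Y := by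
  haveI := Groth.Pi1Quot.surjective hp
  haveI : IrreducibleSpace Y := p.surjective.irreducibleSpace p.continuous
  haveI : IsReduced Y := ⟨fun U => isReduced_of_injective (p.app U).hom (hp.injective U)⟩
  exact isIntegral_of_irreducibleSpace_of_isReduced _

theorem isNormalScheme_quot (hp : SGA1.IsQuot ρ p) [IsIntegral X] (hX : Pi1.IsNormalScheme X) :
    Pi1.IsNormalScheme Y := by
  haveI := isIntegral_quot hp
  haveI := Groth.Pi1Quot.surjective hp
  refine (Groth.Agent.S9821.result Y).2 fun U hUne _ => ?_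
  obtain ⟨⟨y, hy⟩⟩ := hUne
  obtain ⟨x, rfl⟩ := p.surjective y
  haveI : Nonempty (p ⁻¹ᵁ U : X.Opens) := ⟨⟨x, hy⟩⟩
  haveI : IsIntegrallyClosed Γ(X, p ⁻¹ᵁ U) :=
    Groth.Variety2.isIntegrallyClosed_Γ (fun x => (hX x).2) _
  refine Groth.FiltBlProj.isIntegrallyClosed_of_exists_mul_eq (p.app U).hom (hp.injective U)
    fun a b c hc => ?_
  by_cases hb : (p.app U).hom b = 0
  · exact ⟨0, by rw [hc, hb, map_zero, mul_zero, mul_zero]⟩
  have hinv : c ∈ Set.range (p.app U).hom :=
    (hp.range_iff U c).2 ((forall_smul_iff hp.inv U c).1 fun g => mul_right_cancel₀ hb (by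
      have h := congrArg (sectionHom hp.inv U g) hc
      rw [map_mul, sectionHom_app, sectionHom_app] at h
      exact h.symm.trans hc))
  obtain ⟨d, rfl⟩ := hinv
  exact ⟨d, hc⟩

/-- The function field of the quotient by a faithful action has index the order of the group. -/
theorem homDegree_quot (hp : SGA1.IsQuot ρ p) [IsIntegral X] [IsIntegral Y] [X.IsSeparated]
    (hρ : Function.Injective ρ) (e : p.base (genericPoint X) = genericPoint Y) :
    Models.homDegree (Y.presheaf.stalkSpecializes (specializes_of_eq e) ≫ p.stalkMap (genericPoint X)).hom =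
      Nat.card G := by
  haveI := hp.affine
  obtain ⟨_, ⟨U, hU, rfl⟩, hηU, -⟩ :=
    Y.isBasis_affineOpens.exists_subset_of_mem_open (Set.mem_univ (genericPoint Y)) isOpen_univ
  change Y.Opens at U
  have hW : IsAffineOpen (p ⁻¹ᵁ U) := hU.preimage p
  have hηW : genericPoint X ∈ p ⁻¹ᵁ U := show p.base (genericPoint X) ∈ U from e ▸ hηU
  haveI : Nonempty U := ⟨⟨_, hηU⟩⟩
  haveI : Nonempty (p ⁻¹ᵁ U : X.Opens) := ⟨⟨_, hηW⟩⟩
  let ψ := Y.presheaf.stalkSpecializes (specializes_of_eq e) ≫ p.stalkMap (genericPoint X)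
  letI := action hp.inv U
  letI := algebra (p := p) U
  letI : Algebra Y.functionField X.functionField := ψ.hom.toAlgebra
  letI : Algebra Γ(Y, U) X.functionField :=
    ((X.germToFunctionField (p ⁻¹ᵁ U)).hom.comp (p.app U).hom).toAlgebra
  haveI : IsFractionRing Γ(Y, U) Y.functionField := functionField_isFractionRing_of_isAffineOpen Y U hU
  haveI : IsFractionRing Γ(X, p ⁻¹ᵁ U) X.functionField :=
    functionField_isFractionRing_of_isAffineOpen X _ hW
  have hsq : Y.germToFunctionField U ≫ ψ = p.app U ≫ X.germToFunctionField (p ⁻¹ᵁ U) := by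
    simp only [ψ, Scheme.germToFunctionField]
    rw [Y.presheaf.germ_stalkSpecializes_assoc]
    exact p.germ_stalkMap U (genericPoint X) hηW
  haveI : IsScalarTower Γ(Y, U) Y.functionField X.functionField :=
    IsScalarTower.of_algebraMap_eq fun a => (ConcreteCategory.congr_hom hsq a).symm
  haveI : IsScalarTower Γ(Y, U) Γ(X, p ⁻¹ᵁ U) X.functionField :=
    IsScalarTower.of_algebraMap_eq fun _ => rfl
  haveI : IsDominant hW.fromSpec := ⟨by
    rw [DenseRange, hW.range_fromSpec]
    exact (p ⁻¹ᵁ U).isOpen.dense ⟨_, hηW⟩⟩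
  haveI : IsGaloisGroup G Γ(Y, U) Γ(X, p ⁻¹ᵁ U) :=
    { faithful := ⟨fun {g₁ g₂} h => by
        have key : ∀ g : G, (∀ a : Γ(X, p ⁻¹ᵁ U), g • a = a) → g = 1 := fun g hg => by
          have h1 : sectionHom hp.inv U g = RingHom.id _ := RingHom.ext hg
          have h2 := sectionHom_fromSpec hp.inv U (hW := hW) g
          rw [h1] at h2
          have h3 : hW.fromSpec ≫ (ρ g⁻¹).hom = hW.fromSpec ≫ 𝟙 X := by
            rw [← h2, Category.comp_id]
            exact (congrArg (· ≫ hW.fromSpec) (Spec.map_id _)).trans (Category.id_comp _)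
          have h4 : ρ g⁻¹ = ρ 1 := by
            rw [map_one]
            exact Iso.ext (ext_of_isDominant hW.fromSpec h3)
          exact inv_eq_one.mp (hρ h4)
        exact inv_mul_eq_one.mp (key (g₁⁻¹ * g₂) fun a => by rw [mul_smul, ← h a, inv_smul_smul])⟩
      commutes := smulCommClass hp U
      isInvariant := isInvariant hp U }
  letI := IsFractionRing.mulSemiringAction G Γ(X, p ⁻¹ᵁ U) X.functionField
  haveI := IsGaloisGroup.to_isFractionRing G Γ(Y, U) Γ(X, p ⁻¹ᵁ U) Y.functionField X.functionField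
  exact (IsGaloisGroup.card_eq_finrank G Y.functionField X.functionField).symm

end Groth.QuotCurve
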