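import Groth.Agent.S18897
import Groth.Agent.Misc10.SymZeta.ProdQuot
import Groth.Agent.Cycles.QuotTransport
import Groth.Agent.FlatMor2.FibCrit.Fibrewise
import Mathlib.AlgebraicGeometry.Morphisms.SmoothFiber
import Mathlib.RingTheory.Finiteness.ModuleFinitePresentation

/-!
Quotients by finite groups of invertible order in families: descent of finite presentation and
flatness, base change, and families of curves.
-/

set_option autoImplicit false
set_option backward.isDefEq.respectTransparency.types false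

universe u

open CategoryTheory CategoryTheory.Limits AlgebraicGeometry

namespace Groth.QuotCurve

/-- A split integral subalgebra of a finitely presented algebra is finitely presented. -/
theorem finitePresentation_of_retract (R A₀ A : Type u) [CommRing R] [CommRing A₀] [CommRing A]
    [Algebra R A₀] [Algebra A₀ A] [Algebra R A] [IsScalarTower R A₀ A] [Algebra.FinitePresentation R A]
    [Algebra.IsIntegral A₀ A] (r : A →ₗ[A₀] A₀) (hr : ∀ a, r (algebraMap A₀ A a) = a) :
    Algebra.FinitePresentation R A₀ := by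
  classical
  haveI : Algebra.FiniteType A₀ A := Algebra.FiniteType.of_restrictScalars_finiteType R A₀ A
  haveI : Module.Finite A₀ A := Algebra.IsIntegral.finite
  have hsurj : Function.Surjective r := fun a => ⟨_, hr a⟩
  -- finite type
  obtain ⟨t, ht⟩ := (inferInstance : Algebra.FiniteType R A).1
  choose p hp hp0 using fun a : A => Algebra.IsIntegral.isIntegral (R := A₀) a
  let T : Finset A₀ := t.biUnion fun a => (p a).coeffs
  let B := Algebra.adjoin R (T : Set A₀)
  haveI : Algebra.FiniteType R B := Subalgebra.fg_iff_finiteType _ |>.1 (Subalgebra.fg_adjoin_finset T)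
  haveI : Algebra.IsIntegral B A := by
    refine ⟨fun a => ?_⟩
    have hle : Algebra.adjoin R (t : Set A) ≤ (integralClosure B A).restrictScalars R := by
      refine Algebra.adjoin_le fun a ha => ?_
      have hsub : (↑(p a).coeffs : Set A₀) ⊆ B.toSubring := fun c hc =>
        Algebra.subset_adjoin (Finset.mem_biUnion.2 ⟨a, ha, hc⟩)
      refine ⟨(p a).toSubring B.toSubring hsub, ((p a).monic_toSubring B.toSubring hsub).2 (hp a), ?_⟩
      rw [IsScalarTower.algebraMap_eq B A₀ A, ← Polynomial.eval₂_map,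
        show ((p a).toSubring B.toSubring hsub).map (algebraMap B A₀) = p a from
          Polynomial.map_toSubring (p a) B.toSubring hsub]
      exact hp0 a
    exact hle (ht ▸ Algebra.mem_top)
  haveI : Algebra.FiniteType B A := Algebra.FiniteType.of_restrictScalars_finiteType R B A
  haveI : Module.Finite B A := Algebra.IsIntegral.finite
  haveI : Module.Finite B A₀ := Module.Finite.of_surjective (r.restrictScalars B) hsurj
  haveI : Algebra.FiniteType R A₀ := Algebra.FiniteType.trans (R := R) (S := B) (A := A₀) inferInstance inferInstance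
  -- finite presentation
  obtain ⟨n, φ, hφ⟩ := Algebra.FiniteType.iff_quotient_mvPolynomial''.1 (inferInstance : Algebra.FiniteType R A₀)
  let P := MvPolynomial (Fin n) R
  letI : Algebra P A₀ := φ.toRingHom.toAlgebra
  letI : Algebra P A := ((algebraMap A₀ A).comp φ.toRingHom).toAlgebra
  haveI : IsScalarTower P A₀ A := IsScalarTower.of_algebraMap_eq' rfl
  haveI : IsScalarTower R P A₀ := IsScalarTower.of_algebraMap_eq' φ.comp_algebraMap.symm
  haveI : IsScalarTower R P A := IsScalarTower.of_algebraMap_eq fun c => by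
    show algebraMap R A c = algebraMap A₀ A (φ (algebraMap R P c))
    rw [φ.commutes, ← IsScalarTower.algebraMap_apply]
  haveI : Module.Finite P A₀ := Module.Finite.of_surjective (Algebra.linearMap P A₀) hφ
  haveI : Module.Finite P A := Module.Finite.trans A₀ A
  haveI : Algebra.FinitePresentation P A := Algebra.FinitePresentation.of_restrict_scalars_finitePresentation R P A
  haveI : Module.FinitePresentation P A := Module.FinitePresentation.of_finite_of_finitePresentation P A
  haveI : Module.FinitePresentation P A₀ := by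
    let rP := r.restrictScalars P
    let e : A →ₗ[P] A := LinearMap.id - ((IsScalarTower.toAlgHom P A₀ A).toLinearMap ∘ₗ rP)
    refine Module.finitePresentation_of_surjective rP hsurj ?_
    have : LinearMap.ker rP = LinearMap.range e := by
      ext a
      constructor
      · intro ha
        exact ⟨a, by simp [e, show rP a = 0 from ha]⟩
      · rintro ⟨b, rfl⟩
        show r (b - algebraMap A₀ A (r b)) = 0
        rw [map_sub, hr, sub_self]
    rw [this, LinearMap.range_eq_map]
    exact Module.Finite.fg_top.map e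
  haveI : Algebra.FinitePresentation P A₀ := Algebra.FinitePresentation.of_finitePresentation P A₀
  exact Algebra.FinitePresentation.trans R P A₀

variable {X Y S : Scheme.{u}} {G : Type u} [Group G] [Finite G] {ρ : G →* Aut X} {π : X ⟶ Y}
  (hp : SGA1.IsQuot ρ π) (q : Y ⟶ S) (hG : IsUnit ((Nat.card G : ℕ) : Γ(S, ⊤)))

include hG in
omit [Finite G] in
theorem isUnit_card (U : S.Opens) : IsUnit ((Nat.card G : ℕ) : Γ(S, U)) := by
  have h := hG.map (S.presheaf.map (homOfLE (le_top : U ≤ ⊤)).op).hom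
  rwa [map_natCast] at h

include hp hG in
theorem exists_retraction_sections {U : S.Opens} {V : Y.Opens} (e : V ≤ q ⁻¹ᵁ U) :
    letI := Groth.Pi1Quot.algebra (p := π) V
    ∃ r : Γ(X, π ⁻¹ᵁ V) →ₗ[Γ(Y, V)] Γ(Y, V), ∀ a, r (algebraMap Γ(Y, V) Γ(X, π ⁻¹ᵁ V) a) = a := by
  cases nonempty_fintype G
  letI := Groth.Pi1Quot.algebra (p := π) V
  letI := Groth.Pi1Quot.action hp.inv V
  haveI := Groth.Pi1Quot.smulCommClass hp V
  have hu : IsUnit (Fintype.card G : Γ(Y, V)) := by
    have h := (isUnit_card hG U).map (q.appLE U V e).hom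
    rwa [map_natCast, Nat.card_eq_fintype_card] at h
  obtain ⟨r, hr, -⟩ := Groth.Misc10.SymZeta.exists_retraction hu
    (Algebra.ofId Γ(Y, V) Γ(X, π ⁻¹ᵁ V)) (hp.injective V) fun a =>
      (hp.range_iff V a).trans (Groth.Pi1Quot.forall_smul_iff hp.inv V a).symm
  exact ⟨r, hr⟩

include hp hG in
theorem flat_quot [Flat (π ≫ q)] : Flat q := by
  haveI := hp.affine
  rw [HasRingHomProperty.iff_appLE (P := @Flat)]
  intro U V e
  have hW : IsAffineOpen (π ⁻¹ᵁ V.1) := V.2.preimage π
  have h1 := HasRingHomProperty.appLE (P := @Flat) (π ≫ q) inferInstance U ⟨_, hW⟩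
    (show π ⁻¹ᵁ V.1 ≤ π ⁻¹ᵁ (q ⁻¹ᵁ U.1) from π.preimage_mono e)
  rw [← Scheme.Hom.appLE_comp_appLE π q U.1 V.1 (π ⁻¹ᵁ V.1) e le_rfl, Scheme.Hom.appLE_eq_app] at h1
  obtain ⟨r, hr⟩ := exists_retraction_sections hp q hG e
  letI := Groth.Pi1Quot.algebra (p := π) V.1
  algebraize [(q.appLE U.1 V.1 e).hom, (q.appLE U.1 V.1 e ≫ π.app V.1).hom]
  haveI : IsScalarTower Γ(S, U.1) Γ(Y, V.1) Γ(X, π ⁻¹ᵁ V.1) := IsScalarTower.of_algebraMap_eq' rfl
  haveI : Module.Flat Γ(S, U.1) Γ(X, π ⁻¹ᵁ V.1) := h1
  exact Module.Flat.of_retract (IsScalarTower.toAlgHom Γ(S, U.1) Γ(Y, V.1) Γ(X, π ⁻¹ᵁ V.1)).toLinearMap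
    (r.restrictScalars Γ(S, U.1)) (LinearMap.ext hr)

include hp hG in
theorem locallyOfFinitePresentation_quot [LocallyOfFinitePresentation (π ≫ q)] :
    LocallyOfFinitePresentation q := by
  haveI := hp.affine
  rw [HasRingHomProperty.iff_appLE (P := @LocallyOfFinitePresentation)]
  intro U V e
  have hW : IsAffineOpen (π ⁻¹ᵁ V.1) := V.2.preimage π
  have h1 := HasRingHomProperty.appLE (P := @LocallyOfFinitePresentation) (π ≫ q) inferInstance U ⟨_, hW⟩
    (show π ⁻¹ᵁ V.1 ≤ π ⁻¹ᵁ (q ⁻¹ᵁ U.1) from π.preimage_mono e)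
  rw [← Scheme.Hom.appLE_comp_appLE π q U.1 V.1 (π ⁻¹ᵁ V.1) e le_rfl, Scheme.Hom.appLE_eq_app] at h1
  obtain ⟨r, hr⟩ := exists_retraction_sections hp q hG e
  letI := Groth.Pi1Quot.algebra (p := π) V.1
  letI := Groth.Pi1Quot.action hp.inv V.1
  haveI := Groth.Pi1Quot.smulCommClass hp V.1
  haveI := Groth.Pi1Quot.isInvariant hp V.1
  haveI := Algebra.IsInvariant.isIntegral Γ(Y, V.1) Γ(X, π ⁻¹ᵁ V.1) G
  algebraize [(q.appLE U.1 V.1 e).hom, (q.appLE U.1 V.1 e ≫ π.app V.1).hom]
  haveI : IsScalarTower Γ(S, U.1) Γ(Y, V.1) Γ(X, π ⁻¹ᵁ V.1) := IsScalarTower.of_algebraMap_eq' rfl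
  haveI : Algebra.FinitePresentation Γ(S, U.1) Γ(X, π ⁻¹ᵁ V.1) := h1
  exact finitePresentation_of_retract Γ(S, U.1) Γ(Y, V.1) Γ(X, π ⁻¹ᵁ V.1) r hr

variable {q} {S' : Scheme.{u}} (b : S' ⟶ S) (hinv : ∀ g : G, (ρ g).hom ≫ π = π)

/-- The automorphism of a base change. -/
noncomputable def bcHom (q : Y ⟶ S) (g : G) : pullback (π ≫ q) b ⟶ pullback (π ≫ q) b :=
  pullback.map _ _ _ _ (ρ g).hom (𝟙 S') (𝟙 S) (by rw [Category.comp_id, ← Category.assoc, hinv]) (by simp)

omit [Finite G] in
@[reassoc (attr := simp)]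
theorem bcHom_fst (g : G) : bcHom b hinv q g ≫ pullback.fst _ _ = pullback.fst _ _ ≫ (ρ g).hom :=
  pullback.lift_fst _ _ _

omit [Finite G] in
@[reassoc (attr := simp)]
theorem bcHom_snd (g : G) : bcHom b hinv q g ≫ pullback.snd _ _ = pullback.snd _ _ :=
  (pullback.lift_snd _ _ _).trans (Category.comp_id _)

omit [Finite G] in
theorem bcHom_mul (g h : G) : bcHom b hinv q (g * h) = bcHom b hinv q h ≫ bcHom b hinv q g := by
  apply pullback.hom_ext
  · rw [bcHom_fst, Category.assoc, bcHom_fst, bcHom_fst_assoc, map_mul, Aut.Aut_mul_def, Iso.trans_hom]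
  · rw [bcHom_snd, Category.assoc, bcHom_snd, bcHom_snd]

omit [Finite G] in
theorem bcHom_one : bcHom b hinv q (1 : G) = 𝟙 _ := by
  apply pullback.hom_ext
  · rw [bcHom_fst, map_one, Category.id_comp]
    exact Category.comp_id _
  · rw [bcHom_snd, Category.id_comp]

/-- The action on a base change. -/
noncomputable def bcAct (q : Y ⟶ S) : G →* Aut (pullback (π ≫ q) b) where
  toFun g :=
    { hom := bcHom b hinv q g
      inv := bcHom b hinv q g⁻¹
      hom_inv_id := by rw [← bcHom_mul, inv_mul_cancel, bcHom_one]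
      inv_hom_id := by rw [← bcHom_mul, mul_inv_cancel, bcHom_one] }
  map_one' := Iso.ext (bcHom_one b hinv)
  map_mul' g h := Iso.ext (by rw [Aut.Aut_mul_def, Iso.trans_hom]; exact bcHom_mul b hinv g h)

include hG in
/-- Quotients by groups of invertible order commute with base change. -/
theorem isQuot_bc :
    SGA1.IsQuot (bcAct b hp.inv q) (pullback.map (π ≫ q) b q b π (𝟙 S') (𝟙 S) (by simp) (by simp)) := by
  let ρ' : PUnit.{u + 1} →* Aut S' := 1
  have hid : SGA1.IsQuot ρ' (𝟙 S') := by
    have hinv' : ∀ g, (ρ' g).hom ≫ 𝟙 S' = 𝟙 S' := fun g => Category.comp_id _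
    refine ⟨inferInstance, hinv', fun U => ?_, fun U s => ⟨fun hs => ?_, fun _ => ⟨s, rfl⟩⟩⟩
    · intro a a' h
      exact h
    · obtain ⟨c, rfl⟩ := hs
      exact (Groth.Pi1Quot.forall_smul_iff hinv' U _).1 fun g => Groth.Pi1Quot.sectionHom_app hinv' U g c
  have h0 := Groth.Misc10.SymZeta.isQuot_prodMap ρ ρ' π (𝟙 S') q b hp hid fun V =>
    ⟨isUnit_card hG V, by simp⟩
  let θ : pullback (π ≫ q) b ⟶ pullback (π ≫ q) (𝟙 S' ≫ b) :=
    (pullback.congrHom rfl (Category.id_comp b).symm).hom
  have hθ1 : θ ≫ pullback.fst _ _ = pullback.fst _ _ :=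
    (pullback.lift_fst _ _ _).trans (Category.comp_id _)
  have hθ2 : θ ≫ pullback.snd _ _ = pullback.snd _ _ :=
    (pullback.lift_snd _ _ _).trans (Category.comp_id _)
  have h1 := Groth.Cycles.QuotTransport.isQuot_iso_comp (ρ' := (bcAct b hp.inv q).comp (MonoidHom.fst G PUnit.{u + 1}))
    h0 θ (fun x => by
      show bcHom b hp.inv q x.1 ≫ θ = θ ≫ Groth.Misc10.SymZeta.prodHom ρ ρ' π (𝟙 S') q b hp.inv hid.inv x
      apply pullback.hom_ext
      · rw [Category.assoc, Category.assoc, hθ1, bcHom_fst, Groth.Misc10.SymZeta.prodHom_fst,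
          reassoc_of% hθ1]
      · rw [Category.assoc, Category.assoc, hθ2, bcHom_snd, Groth.Misc10.SymZeta.prodHom_snd,
          reassoc_of% hθ2]
        exact (Category.comp_id _).symm)
  have e : θ ≫ Groth.Misc10.SymZeta.prodMap π (𝟙 S') q b =
      pullback.map (π ≫ q) b q b π (𝟙 S') (𝟙 S) (by simp) (by simp) := by
    apply pullback.hom_ext
    · rw [Category.assoc, show Groth.Misc10.SymZeta.prodMap π (𝟙 S') q b ≫ pullback.fst _ _ = pullback.fst _ _ ≫ π from
        pullback.lift_fst _ _ _, reassoc_of% hθ1]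
      exact (pullback.lift_fst _ _ _).symm
    · rw [Category.assoc, show Groth.Misc10.SymZeta.prodMap π (𝟙 S') q b ≫ pullback.snd _ _ = pullback.snd _ _ ≫ 𝟙 S' from
        pullback.lift_snd _ _ _, reassoc_of% hθ2]
      exact (pullback.lift_snd _ _ _).symm
  rw [e] at h1
  exact ⟨h1.affine, fun g => h1.inv (g, PUnit.unit), h1.injective, fun U s =>
    (h1.range_iff U s).trans ⟨fun h g => h (g, PUnit.unit), fun h x => h x.1⟩⟩

variable (q)

include hp hG in
/-- The quotient of a family of curves by a finite group of invertible order, faithful on every fibre. -/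
theorem family [IsProper (π ≫ q)] [Smooth (π ≫ q)] [GeometricallyConnected (π ≫ q)]
    (hdim : ∀ s : S, topologicalKrullDim ↥((π ≫ q).fiber s) = 1)
    (hfaith : ∀ s : S, Function.Injective (bcAct (S.fromSpecResidueField s) hp.inv q)) :
    IsProper q ∧ Smooth q ∧ GeometricallyConnected q ∧ (∀ s : S, topologicalKrullDim ↥(q.fiber s) = 1) ∧
      IsFinite π ∧ Flat π ∧ LocallyOfFinitePresentation π ∧ ∀ y : Y, π.finrank y = Nat.card G := by
  haveI := hp.affine
  haveI : LocallyOfFinitePresentation q := locallyOfFinitePresentation_quot hp q hG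
  haveI : Flat q := flat_quot hp q hG
  haveI : IsSeparated q := Groth.Pi1Quot.isSeparated_of_comp hp q
  haveI : Surjective π := Groth.Pi1Quot.surjective hp
  haveI : UniversallyClosed q := UniversallyClosed.of_comp_surjective π q
  haveI : IsFinite π := Groth.Pi1Quot.isFinite_of_comp hp q
  haveI : LocallyOfFinitePresentation π := Groth.FlatMor2.FibCrit.lfp_of_comp π q
  have hs : ∀ s : S, IsProper (q.fiberToSpecResidueField s) ∧ Smooth (q.fiberToSpecResidueField s) ∧
      GeometricallyConnected (q.fiberToSpecResidueField s) ∧ topologicalKrullDim ↥(q.fiber s) = 1 ∧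
      IsFinite (MoreMor.fiberMap π q s) ∧ Flat (MoreMor.fiberMap π q s) ∧
      ∀ y, (MoreMor.fiberMap π q s).finrank y = Nat.card G := fun s => by
    have e : MoreMor.fiberMap π q s = pullback.map (π ≫ q) (S.fromSpecResidueField s) q
        (S.fromSpecResidueField s) π (𝟙 _) (𝟙 S) (by simp) (by simp) := by
      apply pullback.hom_ext
      · exact (pullback.lift_fst _ _ _).trans (pullback.lift_fst _ _ _).symm
      · exact (pullback.lift_snd _ _ _).trans
          ((pullback.lift_snd _ _ _).trans (Category.comp_id _)).symm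
    rw [e]
    haveI : IsProper ((π ≫ q).fiberToSpecResidueField s) := MorphismProperty.pullback_snd _ _ inferInstance
    haveI : Smooth ((π ≫ q).fiberToSpecResidueField s) := MorphismProperty.pullback_snd _ _ inferInstance
    refine Groth.Agent.S18897.result (S.residueField s) ((π ≫ q).fiberToSpecResidueField s) (hdim s) ?_
      (bcAct (S.fromSpecResidueField s) hp.inv q) (hfaith s) (fun g => bcHom_snd _ hp.inv g) _
      (q.fiberToSpecResidueField s) ?_ (isQuot_bc hp hG _)
    · have h := ((isUnit_card hG ⊤).map (S.Γevaluation s).hom).ne_zero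
      rwa [map_natCast] at h
    · exact (pullback.lift_snd _ _ _).trans (Category.comp_id _)
  have hflat : Flat π := (Groth.FlatMor2.FibCrit.flat_of_flat_fibres π q fun s => (hs s).2.2.2.2.2.1).1
  refine ⟨{}, Smooth.of_smooth_fiberToSpecResidueField q fun s => (hs s).2.1,
    (GeometricallyConnected.iff_geometricallyConnected_fiber q).2 fun s => (hs s).2.2.1,
    fun s => (hs s).2.2.2.1, inferInstance, hflat, inferInstance, fun y => ?_⟩
  obtain ⟨z, hz⟩ : ∃ z, q.fiberι (q y) z = y := ⟨_, q.fiberι_asFiber y⟩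
  rw [← (hs (q y)).2.2.2.2.2.2 z,
    Scheme.Hom.finrank_of_isPullback _ _ π (q.fiberι (q y)) (Groth.FlatMor2.FibCrit.isPullback_fiberMap π q (q y)) z,
    hz]

end Groth.QuotCurve
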